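import Cfsg.Agent.N2.Cent.Cl.Base
import Cfsg.Agent.H809.SelfCentPSU
import Cfsg.Agent.S0243
import Cfsg.Agent.S0252
import Cfsg.Agent.S0253
import Cfsg.Agent.S0280
import Cfsg.Agent.S0287
import Cfsg.Agent.S0288
import Cfsg.Agent.S0292
import Cfsg.Agent.S0293
import Cfsg.Agent.S0294
import Cfsg.Agent.S2479
import Cfsg.Agent.S2481
import Cfsg.Agent.S2507
import Cfsg.Agent.S2508
import Cfsg.Agent.S2557
import Cfsg.Agent.S2558
import Cfsg.Agent.S2559
import Cfsg.Agent.S2560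
import Cfsg.Agent.S2571
import Cfsg.Agent.S2578
import Cfsg.Agent.S2591
import Cfsg.Agent.S2592
import Cfsg.Agent.S4200

/-!
# N2 (S3519), box `Cent` for the classical groups (helper97)

* `cent_cl`; `cRow_L`, `cRow_S`, `cRow_U`, `cRow_O`, `cRow_P`, `cRow_M`
-/

set_option autoImplicit false

namespace Cfsg.Agent.N2

open Cfsg Cfsg.Agent.FP3 Subgroup Matrix

namespace CentCl

variable {F : Type} [Field F] [Fintype F]

theorem card_ne_six : Fintype.card F ≠ 6 := fun h => by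
  have h1 := FiniteField.isPrimePow_card F
  rw [h] at h1
  exact absurd h1 (by decide)

/-! ### linear groups -/

theorem l2_of (h : Fintype.card F * (Fintype.card F + 1) ∈ Set.range fun g : ProjectiveSpecialLinearGroup (Fin 2) F =>
    (centralizer ({g} : Set (ProjectiveSpecialLinearGroup (Fin 2) F))).index) : CentRow (ProjectiveSpecialLinearGroup (Fin 2) F) := by
  obtain ⟨g, hg⟩ := h
  refine ⟨g, ?_⟩
  have h1 := (centralizer ({g} : Set (ProjectiveSpecialLinearGroup (Fin 2) F))).card_mul_index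
  have h2 := S0243.result (F := F) rfl 2 le_rfl
  have h3 : 0 < Nat.gcd 2 (Fintype.card F - 1) := Nat.gcd_pos_of_pos_left _ two_pos
  simp only at hg
  rw [hg] at h1
  rw [← h1] at h2 ⊢
  obtain ⟨s, hs⟩ := Nat.exists_eq_add_of_lt (Fintype.one_lt_card (α := F))
  generalize Nat.gcd 2 (Fintype.card F - 1) = d at h2 h3
  generalize Nat.card (centralizer ({g} : Set (ProjectiveSpecialLinearGroup (Fin 2) F))) = c at h2 ⊢
  have e0 : (1 + s + 1) ^ 2 - (1 + s + 1) ^ 0 = (1 + s) * (s + 3) := Nat.sub_eq_of_eq_add (by ring)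
  have e1 : (1 + s + 1) ^ 2 - (1 + s + 1) ^ 1 = (1 + s) * (s + 2) := Nat.sub_eq_of_eq_add (by ring)
  rw [hs, Fin.prod_univ_two, Fin.val_zero, Fin.val_one, e0, e1, Nat.add_sub_cancel] at h2
  have h4 : d * c = 1 + s :=
    Nat.eq_of_mul_eq_mul_left (show 0 < (1 + s) * (s + 2) * (s + 3) by positivity) (by linear_combination h2)
  have h5 : c ≤ 1 + s := h4 ▸ Nat.le_mul_of_pos_left c h3
  rw [hs, pow_succ', sq]
  exact Nat.mul_le_mul_left _ (Nat.mul_le_mul (by omega) (by omega))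

theorem l2 (h4 : 4 ≤ Fintype.card F) : CentRow (ProjectiveSpecialLinearGroup (Fin 2) F) := by
  have ev : ∀ (K : Type) [Field K] [Fintype K], 2 ∣ Fintype.card K → 4 ≤ Fintype.card K →
      CentRow (ProjectiveSpecialLinearGroup (Fin 2) K) := fun K _ _ a b => l2_of (by rw [S2507.result a b]; simp)
  by_cases h2 : 2 ∣ Fintype.card F
  · exact ev F h2 h4
  by_cases h5 : Fintype.card F = 5
  · let _ := Fintype.ofFinite (GaloisField 2 2)
    have hK : Fintype.card (GaloisField 2 2) = 4 := by rw [← Nat.card_eq_fintype_card, GaloisField.card 2 2 two_ne_zero]; rfl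
    obtain ⟨e⟩ := S0253.result h5
    obtain ⟨e'⟩ := S0252.result hK
    exact centRow_congr (e'.trans e.symm) (ev _ (by rw [hK]; norm_num) hK.ge)
  have h := S2508.result h2 (by omega)
  rcases (by omega : Fintype.card F % 4 = 1 ∨ Fintype.card F % 4 = 3) with k | k
  · exact l2_of (by rw [h.1 k]; simp)
  · exact l2_of (by rw [h.2 k]; simp)

theorem psl {n : ℕ} (hn : 2 ≤ n) (h4 : n = 2 → 4 ≤ Fintype.card F) : CentRow (ProjectiveSpecialLinearGroup (Fin n) F) := by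
  rcases hn.eq_or_lt with rfl | hn3
  · exact l2 (h4 rfl)
  have hq : 2 ≤ Fintype.card F := Fintype.one_lt_card
  have h2 := S0243.result (F := F) rfl n hn
  rw [← mul_assoc] at h2
  have hd : 0 < Nat.gcd n (Fintype.card F - 1) := Nat.gcd_pos_of_pos_left _ (by omega)
  have hd' : 0 < Nat.gcd n (Fintype.card F - 1) * (Fintype.card F - 1) := Nat.mul_pos hd (by omega)
  by_cases h : 4 ≤ n ∨ (n = 3 ∧ Fintype.card F = 2)
  · obtain ⟨⟨-, u, -, hu⟩⟩ := (Nat.card_pos_iff.1 (hd.trans_eq (S2578.result (F := F) rfl hn).symm)).1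
    have h1 := S2571.result (F := F) rfl (by omega) (SpecialLinearGroup.toGL u) hu.1 hu.2
    refine row_quot _ u one_pos hd' ?_ h2 (Nat.mul_le_mul_right _ (Nat.gcd_le_right _ (by omega))) (sl_big hq h)
    rw [one_mul, ← h1]
    exact cn_le_map _ SpecialLinearGroup.toGL_injective u
  obtain rfl : n = 3 := by omega
  have hq3 : 3 ≤ Fintype.card F := by omega
  have hk := (S2479.result (F := F) 3 hn).2.2 le_rfl
  have h5 := sl_three hq3
  have h6 : Nat.card (ProjectiveSpecialLinearGroup (Fin 3) F) ≤ Nat.card (SpecialLinearGroup (Fin 3) F) :=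
    Nat.card_le_card_of_surjective _ (QuotientGroup.mk_surjective (s := center (SpecialLinearGroup (Fin 3) F)))
  have h7 := cube_le (c := Fintype.card F ^ 2 + 3 * Fintype.card F - 1) one_pos hd' (one_mul _).le h2 le_rfl h5
  norm_num at hk
  have h8 : Fintype.card F ^ 2 + 3 * Fintype.card F < (Fintype.card F ^ 2 + 3 * Fintype.card F - 1) ^ 3 := by
    obtain ⟨k, hk⟩ : ∃ k, Fintype.card F ^ 2 + 3 * Fintype.card F = k + 3 := ⟨_, (Nat.sub_add_cancel (by omega)).symm⟩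
    rw [hk, show k + 3 - 1 = k + 2 by omega]
    nlinarith [Nat.zero_le (k ^ 3), Nat.zero_le (k ^ 2)]
  obtain ⟨g, hg⟩ := exists_cn_lt hk (h8.trans_le (h7.trans h6))
  exact row_quot _ g one_pos hd' (by omega) h2 le_rfl h5

/-! ### symplectic groups -/

theorem psp44 (hF : Fintype.card F = 4) : CentRow (PSp 2 F) := by
  have hcard : Nat.card (PSp 2 F) = 2 ^ 8 * 3 ^ 2 * 5 ^ 2 * 7 ^ 0 * 11 ^ 0 * 13 ^ 0 * 17 ^ 1 * 31 ^ 0 := by
    have h := H732.SelfCent.card_psp hF (n := 2) (by norm_num)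
    simp only [Finset.prod_range_succ, Finset.prod_range_zero] at h
    norm_num at h ⊢
    exact h
  have h17 : Nat.Prime 17 := by norm_num
  have hd : 17 ∣ Nat.card (PSp 2 F) := by rw [hcard]; norm_num
  have : CharP F 2 := ringChar.of_eq (FiniteField.even_card_iff_char_two.2 (by rw [hF]))
  have ho : 4 = orderOf ((Fintype.card F : ℕ) : ZMod 17) := by
    rw [hF]; exact (H732.SelfCent.ord_eq (by norm_num) (by decide) (by decide)).symm
  refine row_self h17 (H732.SelfCent.selfcent_of_orders h17 hd (by rw [hcard]; norm_num) fun s hs hsd hne g hg => ?_)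
    (by rw [hcard]; norm_num)
  have hsd' := hsd
  rw [hcard] at hsd'
  rcases H732.SelfCent.small_primes hs hsd' with ⟨rfl, -⟩ | ⟨rfl, -⟩ | ⟨rfl, -⟩ | ⟨rfl, h⟩ | ⟨rfl, h⟩ | ⟨rfl, h⟩ | ⟨rfl, h⟩ | ⟨rfl, h⟩
  · exact (S2472.result 2 2 le_rfl (by omega) 17 h17 (by norm_num) (by norm_num) hd 4 2 ho (by decide)).2 (by norm_num) ⟨g, hg⟩
  · refine (S2469.result 2 2 le_rfl (by omega) 3 17 hs h17 (by norm_num) (by norm_num) (by norm_num) (by norm_num) (by norm_num)
      hsd hd 1 4 1 2 ?_ ho (by decide) (by decide) (by norm_num)).2 ⟨by norm_num, ?_⟩ ⟨g, hg⟩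
    · rw [hF]; exact (H732.SelfCent.ord_eq (by norm_num) (by decide) (by decide)).symm
    · rintro ⟨t, ⟨c, rfl⟩, h⟩; omega
  · refine (S2469.result 2 2 le_rfl (by omega) 5 17 hs h17 (by norm_num) (by norm_num) (by norm_num) (by norm_num) (by norm_num)
      hsd hd 2 4 1 2 ?_ ho (by decide) (by decide) (by norm_num)).2 ⟨by norm_num, ?_⟩ ⟨g, hg⟩
    · rw [hF]; exact (H732.SelfCent.ord_eq (by norm_num) (by decide) (by decide)).symm
    · rintro ⟨t, ⟨c, rfl⟩, h⟩; omega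
  all_goals exact absurd rfl ‹_›

theorem psp {m : ℕ} (hm : 2 ≤ m) (h3 : m = 2 → 3 ≤ Fintype.card F) : CentRow (PSp m F) := by
  have hq : 2 ≤ Fintype.card F := Fintype.one_lt_card
  have h2 := H732.SelfCent.card_psp (F := F) rfl (n := m) (by omega)
  rw [mul_comm] at h2
  have hd : 0 < Nat.gcd 2 (Fintype.card F - 1) := Nat.gcd_pos_of_pos_left _ two_pos
  rcases Nat.even_or_odd (Fintype.card F) with he | ho
  · have h1 : Nat.gcd 2 (Fintype.card F - 1) = 1 := (Nat.coprime_two_left.2 (Nat.Even.sub_odd (by omega) he odd_one))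
    by_cases h : 8 ≤ Fintype.card F ∨ (Fintype.card F = 4 ∧ 3 ≤ m) ∨ (Fintype.card F = 2 ∧ 4 ≤ m)
    · exact row_k _ (by norm_num) hd (S2557.result he m (by omega)).2 h2 h1.le (sp_even hm h)
    have h6 := card_ne_six (F := F)
    obtain ⟨c, hc⟩ := he
    rcases (by omega : (m = 2 ∧ Fintype.card F = 4) ∨ (m = 3 ∧ Fintype.card F = 2)) with ⟨rfl, k⟩ | ⟨rfl, k⟩
    · exact psp44 k
    · refine row_self (by norm_num) (H732.SelfCent.psp_six_two k) ?_
      rw [h1, one_mul, k] at h2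
      rw [h2]
      decide
  · obtain ⟨⟨-, u, -, hu⟩⟩ := (Nat.card_pos_iff.1 (two_pos.trans_eq (S2591.result (F := F) rfl ho (m := m) (by omega)).symm)).1
    obtain ⟨c, hc⟩ := id ho
    exact row_quot _ u one_pos hd ((one_mul _).trans (S2592.result rfl ho (by omega) u hu.1 hu.2)).le h2
      (Nat.gcd_le_left _ two_pos) (sp_odd (by omega) hm)

/-! ### unitary groups -/

theorem psu {n q : ℕ} (hF : Fintype.card F = q ^ 2) (hn : 3 ≤ n) (h32 : ¬ (n = 3 ∧ q = 2)) : CentRow (PSU n F q) := by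
  have hq : 2 ≤ q := by
    by_contra h
    have := Fintype.one_lt_card (α := F)
    have := Nat.pow_le_pow_left (show q ≤ 1 by omega) 2
    omega
  have h2 := S0280.result hF n (by omega)
  rw [← mul_assoc] at h2
  have hd : 0 < Nat.gcd n (q + 1) * (q + 1) := Nat.mul_pos (Nat.gcd_pos_of_pos_left _ (by omega)) (by omega)
  have hk := (S2481.result n q (by omega) hF).2
  by_cases h5 : 5 ≤ n
  · exact row_k _ (by norm_num) hd hk h2 (Nat.mul_le_mul_right _ (Nat.gcd_le_right _ (by omega))) (su_big hq h5)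
  rcases (by omega : n = 3 ∨ n = 4) with rfl | rfl
  · obtain ⟨s, rfl⟩ : ∃ s, q = s + 1 := ⟨q - 1, by omega⟩
    obtain ⟨r, hr, hrs, hr3⟩ := exists_prime_u (s := s) (by omega)
    have := Fact.mk hr
    have a1 : ¬ r ∣ s := fun h => hr.one_lt.ne' (Nat.dvd_one.1 ((Nat.dvd_add_right (Dvd.dvd.add (dvd_pow h two_ne_zero) h)).1 hrs))
    have a2 : ¬ r ∣ s + 1 := fun h => hr.one_lt.ne' (Nat.dvd_one.1 ((Nat.dvd_add_right (h.mul_left s)).1 (by
      rwa [show s * (s + 1) + 1 = s ^ 2 + s + 1 by ring])))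
    have a3 : ¬ r ∣ s + 1 + 1 := fun h => hr3 ((Nat.prime_dvd_prime_iff_eq hr Nat.prime_three).1 ((Nat.dvd_add_right hrs).1 (by
      have h1 : r ∣ s ^ 2 + s + 1 + 3 * (s + 1 + 1) := hrs.add (h.mul_left 3)
      have h3 : r ∣ (s + 1 + 1) * (s + 1 + 1) + 3 := by rwa [show (s + 1 + 1) * (s + 1 + 1) + 3 = s ^ 2 + s + 1 + 3 * (s + 1 + 1) by ring]
      exact hrs.add ((Nat.dvd_add_right (h.mul_left _)).1 h3))))
    have e1 : (s + 1) ^ 2 - 1 = s * (s + 1 + 1) := Nat.sub_eq_of_eq_add (by ring)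
    have e2 : (s + 1) ^ 3 + 1 = (s ^ 2 + s + 1) * (s + 1 + 1) := by ring
    have e3 : ((s + 1) ^ 2) ^ 3 - 1 = (s ^ 2 + s + 1) * (s ^ 2 + 3 * s + 3) * (s * (s + 1 + 1)) := Nat.sub_eq_of_eq_add (by ring)
    have b4 : r ∣ (s + 1) ^ 3 + 1 := e2 ▸ hrs.mul_right _
    obtain ⟨x, hx⟩ := exists_prime_orderOf_dvd_card' r (H809.SelfCent.dvd_card_SU (n := 3) hF (by omega) hr
      (((b4.mul_left _).mul_left _).trans (by rw [← Pu_three]; rfl) |>.mul_left _) a3)
    have hl : Nat.gcd ((s ^ 2 + s + 1) * (s ^ 2 + 3 * s + 3)) ((s + 1) ^ 3 + 1) = s ^ 2 + s + 1 := by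
      rw [e2, Nat.gcd_mul_left, show s ^ 2 + 3 * s + 3 = 1 + (s + 1) * (s + 1 + 1) by ring, Nat.gcd_add_mul_right_left]
      simp
    have hc := H809.SelfCent.card_cent_SU hF Nat.prime_three (by decide) hr (e3 ▸ (hrs.mul_right _).mul_right _)
      (by rw [e1, hr.dvd_mul]; exact not_or.2 ⟨a1, a3⟩) (fun h => a2 (hr.dvd_of_dvd_pow h)) b4 (by rw [e1, e3]) hl (by omega) x hx
    exact row_quot _ x one_pos hd ((one_mul _).le.trans hc) h2 (Nat.mul_le_mul_right _ (Nat.gcd_le_left _ (by omega)))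
      (su_three (by omega) (by nlinarith))
  by_cases h4 : 4 ≤ q
  · exact row_k _ (by norm_num) hd hk h2 (Nat.mul_le_mul_right _ (Nat.gcd_le_left _ (by omega))) (su_four h4)
  rcases (by omega : q = 2 ∨ q = 3) with rfl | rfl
  · exact row_self (by norm_num) (H809.SelfCent.psu_selfcent 4 2 5 (by simp) F hF)
      (cube_le one_pos hd (one_mul _).le h2 le_rfl (by decide))
  · exact row_self (by norm_num) (H809.SelfCent.psu_selfcent 4 3 7 (by simp) F hF)
      (cube_le one_pos hd (one_mul _).le h2 le_rfl (by decide))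

/-! ### orthogonal groups -/

theorem pom_odd {m : ℕ} (hm : 3 ≤ m) (ho : Odd (Fintype.card F)) : CentRow (POmega F (quadFormOdd m F)) := by
  have hq : 2 ≤ Fintype.card F := Fintype.one_lt_card
  obtain ⟨c, hc⟩ := id ho
  exact row_k _ (by norm_num) two_pos (S2560.result ho m (by omega)).2 (S0292.result rfl ho m hm) le_rfl (o_odd (by omega) hm)

theorem row_sub {G : Type*} [Group G] [Finite G] (H : Subgroup G) (N : Subgroup H) [N.Normal] {B d D P : ℕ} (hd : 0 < d)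
    (h0 : Nat.card G = 2 * P) (h1 : Nat.card (ConjClasses G) ≤ B) (h2 : d * Nat.card (H ⧸ N) = P) (h3 : d ≤ D)
    (h4 : (2 * D * B) ^ 3 * D ≤ 1 ^ 3 * P) : CentRow (H ⧸ N) := by
  refine row_k N one_pos hd ((one_mul _).le.trans ((S4200.result H).1.trans (Nat.mul_le_mul ?_ h1))) h2 h3 h4
  have h5 : Nat.card (H ⧸ N) ≤ Nat.card H := Nat.card_le_card_of_surjective _ QuotientGroup.mk_surjective
  refine Nat.le_of_mul_le_mul_left ?_ (Nat.card_pos (α := H))
  calc _ = 2 * d * Nat.card (H ⧸ N) := by rw [H.card_mul_index, h0, ← h2, mul_assoc]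
    _ ≤ 2 * D * Nat.card H := Nat.mul_le_mul (Nat.mul_le_mul_left _ h3) h5
    _ = _ := mul_comm _ _

theorem k_orth {m : ℕ} (hm : 4 ≤ m) {a b : F} (hab : ∀ z₁ z₂ : F, z₁ ^ 2 + a * z₁ * z₂ + b * z₂ ^ 2 = 0 → z₁ = 0 ∧ z₂ = 0) :
    Nat.card (ConjClasses (isometryGroup F (quadFormPlus m F))) ≤ 15 * Fintype.card F ^ m ∧
      Nat.card (ConjClasses (isometryGroup F (quadFormMinus (m - 1) F a b))) ≤ 15 * Fintype.card F ^ m := by
  rcases Nat.even_or_odd (Fintype.card F) with h | h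
  · have := S2559.result h m (by omega) a b hab
    exact ⟨this.1.2, this.2.2⟩
  · have := S2558.result h m (by omega) a b hab
    exact ⟨by omega, by omega⟩

theorem gcd_four {q w : ℕ} (hq : 2 ≤ q) (hw : q = 2 → Odd w) : ∃ D, Nat.gcd 4 w ≤ D ∧ ((q = 2 ∧ D = 1) ∨ (3 ≤ q ∧ D = 4)) := by
  rcases hq.eq_or_lt with rfl | h
  · exact ⟨1, (Nat.Coprime.pow_left 2 (Nat.coprime_two_left.2 (hw rfl))).le, .inl ⟨rfl, rfl⟩⟩
  · exact ⟨4, Nat.gcd_le_left _ (by omega), .inr ⟨h, rfl⟩⟩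

theorem pom_plus {m : ℕ} (hm : 4 ≤ m) : CentRow (POmega F (quadFormPlus m F)) := by
  obtain ⟨a, b, hab⟩ := exists_aniso F
  obtain ⟨D, h1, h2⟩ := gcd_four (q := Fintype.card F) (w := Fintype.card F ^ m - 1) Fintype.one_lt_card fun h => by
    rw [h]; exact Nat.Even.sub_odd Nat.one_le_two_pow (even_two.pow_of_ne_zero (by omega)) odd_one
  exact row_sub _ _ (Nat.gcd_pos_of_pos_left _ (by omega)) ((S0287.result rfl m (by omega)).trans (by simp only [mul_assoc]))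
    (k_orth hm hab).1 (S0293.result rfl m hm) h1 (o_even hm le_rfl h2)

theorem pom_minus {m : ℕ} (hm : 4 ≤ m) {a b : F} (hab : ∀ z₁ z₂ : F, z₁ ^ 2 + a * z₁ * z₂ + b * z₂ ^ 2 = 0 → z₁ = 0 ∧ z₂ = 0) :
    CentRow (POmega F (quadFormMinus (m - 1) F a b)) := by
  obtain ⟨D, h1, h2⟩ := gcd_four (q := Fintype.card F) (w := Fintype.card F ^ m + 1) Fintype.one_lt_card fun h => by
    rw [h]; exact (even_two.pow_of_ne_zero (by omega)).add_one
  exact row_sub _ _ (Nat.gcd_pos_of_pos_left _ (by omega)) ((S0288.result rfl m (by omega) a b hab).trans (by simp only [mul_assoc]))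
    (k_orth hm hab).2 (S0294.result rfl m hm a b hab) h1 (o_even hm (by omega) h2)

end CentCl

open CentCl

theorem cRow_L : CRow fL := fun _ _ _ _ _ ⟨_, _, _, _, h1, h2, ⟨e⟩⟩ => centRow_congr e.symm (psl h1 h2)
theorem cRow_S : CRow fS := fun _ _ _ _ _ ⟨_, _, _, _, h1, h2, ⟨e⟩⟩ => centRow_congr e.symm (psp h1 h2)
theorem cRow_U : CRow fU := fun _ _ _ _ _ ⟨_, _, _, _, _, h0, h1, h2, ⟨e⟩⟩ => centRow_congr e.symm (psu h0 h1 h2)
theorem cRow_O : CRow fO := fun _ _ _ _ _ ⟨_, _, _, _, h1, h2, ⟨e⟩⟩ => centRow_congr e.symm (pom_odd h1 h2)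
theorem cRow_P : CRow fP := fun _ _ _ _ _ ⟨_, _, _, _, h1, ⟨e⟩⟩ => centRow_congr e.symm (pom_plus h1)
theorem cRow_M : CRow fM := fun _ _ _ _ _ ⟨_, _, _, _, _, _, h1, h2, ⟨e⟩⟩ => centRow_congr e.symm (pom_minus h1 h2)

/-- **box `Cent`, classical groups** -/
theorem cent_cl (T : Type*) [Group T]
    (h : IsPSL T ∨ IsPSp T ∨ IsPSU T ∨ IsPOmegaOdd T ∨ IsPOmegaPlus T ∨ IsPOmegaMinus T) : CentRow T := by
  rcases h with ⟨_, _, _, _, h1, h2, ⟨e⟩⟩ | ⟨_, _, _, _, h1, h2, ⟨e⟩⟩ | ⟨_, _, _, _, _, h0, h1, h2, ⟨e⟩⟩ | ⟨_, _, _, _, h1, h2, ⟨e⟩⟩ |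
    ⟨_, _, _, _, h1, ⟨e⟩⟩ | ⟨_, _, _, _, _, _, h1, h2, ⟨e⟩⟩
  exacts [centRow_congr e.symm (psl h1 h2), centRow_congr e.symm (psp h1 h2), centRow_congr e.symm (psu h0 h1 h2),
    centRow_congr e.symm (pom_odd h1 h2), centRow_congr e.symm (pom_plus h1), centRow_congr e.symm (pom_minus h1 h2)]

end Cfsg.Agent.N2
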