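import Cfsg.Agent.N2.Tool
import Cfsg.Agent.H659.BFC

/-!
# N2 (S3519), box `Cent` for the classical groups: averaging and arithmetic (helper97)
-/

set_option autoImplicit false
set_option linter.unusedSectionVars false

namespace Cfsg.Agent.N2.CentCl

open Cfsg.Agent.FP3 Subgroup Finset

section grp

variable {G : Type*} [Group G] [Finite G]

theorem sum_cn [Fintype G] : ∑ g : G, cn g = Nat.card (ConjClasses G) * Nat.card G := by
  rw [← card_comm_eq_card_conjClasses_mul_card, Nat.card_congr (Equiv.subtypeProdEquivSigmaSubtype Commute), Nat.card_sigma]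
  refine Finset.sum_congr rfl fun g _ => Nat.card_congr (Equiv.subtypeEquivRight fun x => ?_)
  rw [mem_centralizer_singleton_iff]
  exact eq_comm

/-- some centraliser has at most as many elements as there are classes -/
theorem exists_cn_le (G : Type*) [Group G] [Finite G] : ∃ g : G, cn g ≤ Nat.card (ConjClasses G) := by
  have := Fintype.ofFinite G
  refine (Finset.exists_le_of_sum_le (s := univ) (g := fun _ => Nat.card (ConjClasses G)) univ_nonempty ?_).imp fun g h => h.2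
  rw [sum_cn, sum_const, card_univ, smul_eq_mul, mul_comm, Nat.card_eq_fintype_card (α := G)]

theorem exists_cn_lt {k : ℕ} (hk : Nat.card (ConjClasses G) ≤ k) (h : k < Nat.card G) : ∃ g : G, cn g < k := by
  have := Fintype.ofFinite G
  by_contra hc
  push Not at hc
  have h1 : cn (1 : G) = Nat.card G := by
    unfold cn
    rw [show centralizer ({1} : Set G) = ⊤ from eq_top_iff.2 fun x _ => mem_centralizer_singleton_iff.2 (by simp), card_top]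
  have h2 : ∑ _g : G, k < ∑ g : G, cn g := Finset.sum_lt_sum (fun g _ => hc g) ⟨1, mem_univ _, h1 ▸ h⟩
  rw [sum_cn, sum_const, card_univ, smul_eq_mul, mul_comm, ← Nat.card_eq_fintype_card] at h2
  exact absurd (Nat.mul_le_mul_right _ hk) h2.not_ge

theorem cn_le_map {H : Type*} [Group H] [Finite H] (f : G →* H) (hf : Function.Injective f) (g : G) : cn g ≤ cn (f g) :=
  Nat.card_le_card_of_injective (fun x => (⟨f x.1, by
    rw [mem_centralizer_singleton_iff, ← map_mul, ← map_mul, mem_centralizer_singleton_iff.1 x.2]⟩ : centralizer ({f g} : Set H)))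
    fun _ _ h => Subtype.ext (hf (Subtype.mk.inj h))

theorem cube_le {a c B d D N P : ℕ} (ha : 0 < a) (hd : 0 < d) (h1 : a * c ≤ B) (h2 : d * N = P) (h3 : d ≤ D)
    (h4 : B ^ 3 * D ≤ a ^ 3 * P) : c ^ 3 ≤ N := by
  refine Nat.le_of_mul_le_mul_left ?_ (Nat.mul_pos (pow_pos ha 3) hd)
  calc a ^ 3 * d * c ^ 3 = (a * c) ^ 3 * d := by ring
    _ ≤ B ^ 3 * D := Nat.mul_le_mul (Nat.pow_le_pow_left h1 3) h3
    _ ≤ a ^ 3 * P := h4
    _ = _ := by rw [← h2, mul_assoc]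

/-- an element upstairs with a small centraliser -/
theorem row_quot (N : Subgroup G) [N.Normal] (g : G) {a B d D P : ℕ} (ha : 0 < a) (hd : 0 < d) (h1 : a * cn g ≤ B)
    (h2 : d * Nat.card (G ⧸ N) = P) (h3 : d ≤ D) (h4 : B ^ 3 * D ≤ a ^ 3 * P) : CentRow (G ⧸ N) :=
  ⟨g, (Nat.pow_le_pow_left (H659.BFC.card_centralizer_quotient_le N g) 3).trans (cube_le ha hd h1 h2 h3 h4)⟩

/-- few classes upstairs -/
theorem row_k (N : Subgroup G) [N.Normal] {a B d D P : ℕ} (ha : 0 < a) (hd : 0 < d) (h1 : a * Nat.card (ConjClasses G) ≤ B)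
    (h2 : d * Nat.card (G ⧸ N) = P) (h3 : d ≤ D) (h4 : B ^ 3 * D ≤ a ^ 3 * P) : CentRow (G ⧸ N) :=
  let ⟨g, hg⟩ := exists_cn_le G
  row_quot N g ha hd ((Nat.mul_le_mul_left _ hg).trans h1) h2 h3 h4

/-- a self-centralising subgroup of prime order -/
theorem row_self {r : ℕ} (hr : r.Prime) (h : ∃ R : Subgroup G, Nat.card R = r ∧ centralizer (R : Set G) = R)
    (hG : r ^ 3 ≤ Nat.card G) : CentRow G := by
  obtain ⟨R, h1, h2⟩ := h
  have : Fact r.Prime := ⟨hr⟩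
  obtain ⟨t, rfl⟩ := (Subgroup.isCyclic_iff_exists_zpowers_eq_top _).1 (isCyclic_of_prime_card h1)
  refine ⟨t, ?_⟩
  rwa [← centralizer_closure, ← zpowers_eq_closure, h2, h1]

end grp

section arith

/-- the product in the order of the symplectic and orthogonal groups -/
def Pe (q m : ℕ) : ℕ := ∏ i ∈ range m, (q ^ (2 * (i + 1)) - 1)

theorem Pe_mono {q q' m m' : ℕ} (h2 : 2 ≤ q) (hq : q ≤ q') (hm : m ≤ m') : Pe q m ≤ Pe q' m' := by
  refine (Finset.prod_le_prod' (g := fun i => q' ^ (2 * (i + 1)) - 1) fun i _ => Nat.sub_le_sub_right (Nat.pow_le_pow_left hq _) 1).trans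
    (Finset.prod_le_prod_of_subset_of_one_le' (range_subset_range.2 hm) fun i _ _ => ?_)
  exact Nat.le_sub_one_of_lt (Nat.one_lt_pow (by omega) (by omega))

theorem Pe_two {q a : ℕ} (h : q ^ 2 = a + 1) : Pe q 2 = a * (a * (a + 2)) := by
  have h4 : q ^ (2 * (1 + 1)) = a * (a + 2) + 1 := by rw [pow_mul, h]; ring
  simp only [Pe, prod_range_succ, prod_range_zero, zero_add, mul_one, one_mul, h, h4, Nat.add_sub_cancel]

theorem pw {q A C P e f s : ℕ} (hq : 1 ≤ q) (he : e * 3 ≤ f + s) (h : A * q ^ s ≤ C * P) : A * (q ^ e) ^ 3 ≤ C * (q ^ f * P) :=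
  calc A * (q ^ e) ^ 3 ≤ A * q ^ (f + s) := Nat.mul_le_mul_left _ (by rw [← pow_mul]; exact Nat.pow_le_pow_right hq he)
    _ = q ^ f * (A * q ^ s) := by ring
    _ ≤ q ^ f * (C * P) := Nat.mul_le_mul_left _ h
    _ = _ := by ring

theorem sp_odd {q m : ℕ} (hq : 3 ≤ q) (hm : 2 ≤ m) : (2 * q ^ m) ^ 3 * 2 ≤ 1 ^ 3 * (q ^ (m ^ 2) * Pe q m) := by
  obtain ⟨a, ha⟩ : ∃ a, q ^ 2 = a + 1 := ⟨q ^ 2 - 1, by have := Nat.pow_le_pow_left hq 2; omega⟩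
  have h8 : 8 ≤ a := by have := Nat.pow_le_pow_left hq 2; omega
  have h1 : 16 * q ^ 2 ≤ 1 ^ 3 * Pe q m := by
    have h2 := Pe_mono (by omega : 2 ≤ q) le_rfl hm
    rw [Pe_two ha] at h2
    have h3 : 8 * (8 * (a + 2)) ≤ a * (a * (a + 2)) := Nat.mul_le_mul h8 (Nat.mul_le_mul_right _ h8)
    omega
  have := pw (e := m) (f := m ^ 2) (by omega) (by nlinarith) h1
  calc _ = 16 * (q ^ m) ^ 3 := by ring
    _ ≤ _ := this

theorem sp_even {q m : ℕ} (hm : 2 ≤ m) (h : 8 ≤ q ∨ (q = 4 ∧ 3 ≤ m) ∨ (q = 2 ∧ 4 ≤ m)) :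
    (76 * q ^ m) ^ 3 * 1 ≤ 5 ^ 3 * (q ^ (m ^ 2) * Pe q m) := by
  rw [mul_one, mul_pow]
  rcases h with hq | ⟨rfl, h⟩ | ⟨rfl, h⟩
  · obtain ⟨a, ha⟩ : ∃ a, q ^ 2 = a + 1 := ⟨q ^ 2 - 1, by have := Nat.pow_le_pow_left hq 2; omega⟩
    have h8 : 63 ≤ a := by have := Nat.pow_le_pow_left hq 2; omega
    refine pw (s := 2) (by omega) (by nlinarith) ?_
    have h2 := Pe_mono (by omega : 2 ≤ q) le_rfl hm
    rw [Pe_two ha] at h2
    have h3 : a * (63 * (63 + 2)) ≤ a * (a * (a + 2)) := Nat.mul_le_mul_left _ (Nat.mul_le_mul h8 (by omega))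
    omega
  · refine pw (s := 0) (by omega) (by nlinarith) ?_
    have h2 := Pe_mono (by omega : 2 ≤ 4) le_rfl hm
    rw [Pe_two (a := 15) rfl] at h2
    omega
  · have h2 := Pe_mono (by omega : 2 ≤ 2) le_rfl hm
    rw [Pe_two (a := 3) rfl] at h2
    obtain ⟨f, hf⟩ : ∃ f, m ^ 2 = m * 3 + f ∧ 4 ≤ f := ⟨m ^ 2 - m * 3, by have : m * 3 + 4 ≤ m ^ 2 := by nlinarith
                                                                          omega⟩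
    have h3 : 2835 ≤ Pe 2 m := (by decide : 2835 ≤ Pe 2 3).trans (Pe_mono le_rfl le_rfl (by omega))
    have h4 : 2 ^ 4 ≤ 2 ^ f := Nat.pow_le_pow_right (by omega) hf.2
    have h5 := Nat.mul_le_mul h4 h3
    rw [hf.1, pow_add, ← pow_mul, mul_assoc, mul_left_comm, mul_comm]
    exact Nat.mul_le_mul_left _ (by omega)

theorem Pe_three {q m : ℕ} (hq : 3 ≤ q) (hm : 3 ≤ m) : 465920 ≤ Pe q m :=
  (by decide : 465920 ≤ Pe 3 3).trans (Pe_mono (by omega) hq hm)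

theorem o_odd {q m : ℕ} (hq : 3 ≤ q) (hm : 3 ≤ m) : (73 * q ^ m) ^ 3 * 2 ≤ 10 ^ 3 * (q ^ (m ^ 2) * Pe q m) := by
  have h1 := Pe_three hq hm
  have := pw (q := q) (A := 73 ^ 3 * 2) (C := 10 ^ 3) (P := Pe q m) (e := m) (f := m ^ 2) (s := 0) (by omega) (by nlinarith)
    (by rw [pow_zero]; omega)
  calc _ = 73 ^ 3 * 2 * (q ^ m) ^ 3 := by ring
    _ ≤ _ := this

theorem o_even {q m D w : ℕ} (hm : 4 ≤ m) (hw : q ^ m - 1 ≤ w) (h : (q = 2 ∧ D = 1) ∨ (3 ≤ q ∧ D = 4)) :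
    (2 * D * (15 * q ^ m)) ^ 3 * D ≤ 1 ^ 3 * (q ^ (m * (m - 1)) * w * Pe q (m - 1)) := by
  have he : m * 3 ≤ m * (m - 1) + 0 := Nat.mul_le_mul_left _ (by omega)
  have key : (2 * D * 15) ^ 3 * D * q ^ 0 ≤ 1 ^ 3 * (w * Pe q (m - 1)) := by
    rw [pow_zero]
    rcases h with ⟨rfl, rfl⟩ | ⟨hq, rfl⟩
    · have h3 : 2835 ≤ Pe 2 (m - 1) := (by decide : 2835 ≤ Pe 2 3).trans (Pe_mono le_rfl le_rfl (by omega))
      have h4 : 2 ^ 4 ≤ 2 ^ m := Nat.pow_le_pow_right (by omega) hm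
      have h5 := Nat.mul_le_mul (show 15 ≤ w by omega) h3
      omega
    · have h3 := Pe_three hq (show 3 ≤ m - 1 by omega)
      have h4 : 3 ^ 4 ≤ q ^ m := (Nat.pow_le_pow_left hq 4).trans (Nat.pow_le_pow_right (by omega) hm)
      have h5 := Nat.mul_le_mul (show 80 ≤ w by omega) h3
      omega
  have := pw (by omega : 1 ≤ q) he key
  calc _ = (2 * D * 15) ^ 3 * D * (q ^ m) ^ 3 := by ring
    _ ≤ _ := this
    _ = _ := by ring

/-- the product in the order of the unitary groups -/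
def Pu (q n : ℕ) : ℕ := ∏ i ∈ range n, (if Even i then q ^ (i + 1) + 1 else q ^ (i + 1) - 1)

theorem Pu_mono {q m m' : ℕ} (h2 : 2 ≤ q) (hm : m ≤ m') : Pu q m ≤ Pu q m' := by
  refine Finset.prod_le_prod_of_subset_of_one_le' (range_subset_range.2 hm) fun i _ _ => ?_
  split_ifs
  · omega
  · exact Nat.le_sub_one_of_lt (Nat.one_lt_pow (by omega) (by omega))

theorem Pu_three (q : ℕ) : Pu q 3 = (q + 1) * ((q ^ 2 - 1) * (q ^ 3 + 1)) := by
  simp [Pu, prod_range_succ, mul_assoc, Nat.even_iff]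

theorem Pu_four (q : ℕ) : Pu q 4 = (q + 1) * ((q ^ 2 - 1) * (q ^ 3 + 1) * (q ^ 4 - 1)) := by
  simp [Pu, prod_range_succ, mul_assoc, Nat.even_iff]

theorem Pu_five (q : ℕ) : Pu q 5 = (q + 1) * ((q ^ 2 - 1) * (q ^ 3 + 1) * (q ^ 4 - 1) * (q ^ 5 + 1)) := by
  simp [Pu, prod_range_succ, mul_assoc, Nat.even_iff]

theorem su_three {q l : ℕ} (hq : 3 ≤ q) (hl : l ≤ q ^ 2) : l ^ 3 * (3 * (q + 1)) ≤ 1 ^ 3 * (q ^ (3 * (3 - 1) / 2) * Pu q 3) := by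
  have h1 : 3 * q ^ 3 ≤ (q ^ 2 - 1) * (q ^ 3 + 1) :=
    Nat.mul_le_mul (by have := Nat.pow_le_pow_left hq 2; omega) (by omega)
  rw [Pu_three]
  calc _ ≤ (q ^ 2) ^ 3 * (3 * (q + 1)) := Nat.mul_le_mul_right _ (Nat.pow_le_pow_left hl 3)
    _ = q ^ 3 * ((q + 1) * (3 * q ^ 3)) := by ring
    _ ≤ q ^ 3 * ((q + 1) * ((q ^ 2 - 1) * (q ^ 3 + 1))) := Nat.mul_le_mul_left _ (Nat.mul_le_mul_left _ h1)
    _ = _ := by norm_num

theorem su_four {q : ℕ} (hq : 4 ≤ q) : (826 * q ^ (4 - 1)) ^ 3 * (4 * (q + 1)) ≤ 100 ^ 3 * (q ^ (4 * (4 - 1) / 2) * Pu q 4) := by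
  have h1 : 15 * q ^ 3 * 255 ≤ (q ^ 2 - 1) * (q ^ 3 + 1) * (q ^ 4 - 1) :=
    Nat.mul_le_mul (Nat.mul_le_mul (by have := Nat.pow_le_pow_left hq 2; omega) (by omega))
      (by have := Nat.pow_le_pow_left hq 4; omega)
  have h2 : 826 ^ 3 * (4 * (q + 1)) * q ^ 3 ≤ 100 ^ 3 * Pu q 4 := by
    rw [Pu_four]
    calc _ = (q + 1) * (826 ^ 3 * 4 * q ^ 3) := by ring
      _ ≤ (q + 1) * (100 ^ 3 * ((q ^ 2 - 1) * (q ^ 3 + 1) * (q ^ 4 - 1))) := Nat.mul_le_mul_left _ (by omega)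
      _ = _ := by ring
  have := pw (e := 4 - 1) (f := 4 * (4 - 1) / 2) (by omega) (by norm_num) h2
  calc _ = 826 ^ 3 * (4 * (q + 1)) * (q ^ (4 - 1)) ^ 3 := by ring
    _ ≤ _ := this

theorem su_big {q n : ℕ} (hq : 2 ≤ q) (hn : 5 ≤ n) :
    (826 * q ^ (n - 1)) ^ 3 * ((q + 1) * (q + 1)) ≤ 100 ^ 3 * (q ^ (n * (n - 1) / 2) * Pu q n) := by
  have h0 : q ^ 2 * (q + 1) * 2 ≤ q ^ 5 + 1 := by
    have h1 : 2 * (q + 1) ≤ q ^ 3 := by nlinarith [Nat.mul_le_mul hq hq]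
    calc _ = q ^ 2 * (2 * (q + 1)) := by ring
      _ ≤ q ^ 2 * q ^ 3 := Nat.mul_le_mul_left _ h1
      _ ≤ _ := by rw [← pow_add]; exact Nat.le_succ _
  have h1 : 3 * 9 * 15 * (q ^ 2 * (q + 1) * 2) ≤ (q ^ 2 - 1) * (q ^ 3 + 1) * (q ^ 4 - 1) * (q ^ 5 + 1) :=
    Nat.mul_le_mul (Nat.mul_le_mul (Nat.mul_le_mul (by have := Nat.pow_le_pow_left hq 2; omega)
      (by have := Nat.pow_le_pow_left hq 3; omega)) (by have := Nat.pow_le_pow_left hq 4; omega)) h0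
  have h2 : 826 ^ 3 * ((q + 1) * (q + 1)) * q ^ 2 ≤ 100 ^ 3 * Pu q n := by
    refine le_trans ?_ (Nat.mul_le_mul_left _ (Pu_mono hq hn))
    rw [Pu_five]
    calc _ = (q + 1) * (826 ^ 3 * (q ^ 2 * (q + 1))) := by ring
      _ ≤ (q + 1) * (100 ^ 3 * ((q ^ 2 - 1) * (q ^ 3 + 1) * (q ^ 4 - 1) * (q ^ 5 + 1))) := Nat.mul_le_mul_left _ (by omega)
      _ = _ := by ring
  have he : (n - 1) * 3 ≤ n * (n - 1) / 2 + 2 := by
    obtain ⟨t, rfl⟩ := Nat.exists_eq_add_of_le' hn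
    have : (t + 4) * 3 * 2 ≤ (t + 5) * (t + 4) + 4 := by nlinarith
    rw [show t + 5 - 1 = t + 4 by omega]
    omega
  have := pw (by omega) he h2
  calc _ = 826 ^ 3 * ((q + 1) * (q + 1)) * (q ^ (n - 1)) ^ 3 := by ring
    _ ≤ _ := this

theorem sl_prod {q n : ℕ} (hq : 1 ≤ q) : ((q - 1) * q ^ (n - 1)) ^ n ≤ ∏ i : Fin n, (q ^ n - q ^ (i : ℕ)) := by
  have := Finset.pow_card_le_prod (univ : Finset (Fin n)) (fun i => q ^ n - q ^ (i : ℕ)) ((q - 1) * q ^ (n - 1)) fun i _ => by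
    have h1 : q ^ (i : ℕ) ≤ q ^ (n - 1) := Nat.pow_le_pow_right hq (by omega)
    have h2 : q ^ n = q * q ^ (n - 1) := by rw [← pow_succ', Nat.sub_add_cancel (by have := i.2; omega)]
    rw [Nat.sub_mul, one_mul, ← h2]
    omega
  rwa [card_univ, Fintype.card_fin] at this

theorem sl_big {q n : ℕ} (hq : 2 ≤ q) (h : 4 ≤ n ∨ (n = 3 ∧ q = 2)) :
    ((q - 1) * q ^ (n - 1)) ^ 3 * ((q - 1) * (q - 1)) ≤ 1 ^ 3 * ∏ i : Fin n, (q ^ n - q ^ (i : ℕ)) := by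
  rw [one_pow, one_mul]
  refine le_trans ?_ (sl_prod (by omega))
  rcases h with h | ⟨rfl, rfl⟩
  · have h1 : q - 1 ≤ q ^ (n - 1) := (Nat.sub_le _ _).trans (Nat.le_self_pow (by omega) q)
    have h2 : 0 < (q - 1) * q ^ (n - 1) := Nat.mul_pos (by omega) (by positivity)
    calc _ ≤ ((q - 1) * q ^ (n - 1)) ^ 3 * ((q - 1) * q ^ (n - 1)) := Nat.mul_le_mul_left _ (Nat.mul_le_mul_left _ h1)
      _ ≤ _ := by rw [← pow_succ]; exact Nat.pow_le_pow_right h2 h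
  · norm_num

theorem sl_three {q : ℕ} (hq : 3 ≤ q) :
    (q ^ 2 + 3 * q - 1) ^ 3 * (Nat.gcd 3 (q - 1) * (q - 1)) ≤ 1 ^ 3 * ∏ i : Fin 3, (q ^ 3 - q ^ (i : ℕ)) := by
  rcases hq.eq_or_lt with rfl | hq
  · decide
  obtain ⟨t, rfl⟩ := Nat.exists_eq_add_of_le' hq
  refine (Nat.mul_le_mul_left _ (Nat.mul_le_mul_right _ (Nat.gcd_le_left _ (by omega : 0 < 3)))).trans ?_
  have h0 : (t + (3 + 1)) ^ 2 + 3 * (t + (3 + 1)) - 1 = t ^ 2 + 11 * t + 27 := Nat.sub_eq_of_eq_add (by ring)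
  have h1 : (t + (3 + 1)) ^ 3 - (t + (3 + 1)) ^ 0 = (t + 3) * (t ^ 2 + 9 * t + 21) := Nat.sub_eq_of_eq_add (by ring)
  have h2 : (t + (3 + 1)) ^ 3 - (t + (3 + 1)) ^ 1 = (t + 3) * (t + 4) * (t + 5) := Nat.sub_eq_of_eq_add (by ring)
  have h3 : (t + (3 + 1)) ^ 3 - (t + (3 + 1)) ^ 2 = (t + 3) * (t + 4) ^ 2 := Nat.sub_eq_of_eq_add (by ring)
  rw [Fin.prod_univ_three, Fin.val_zero, Fin.val_one, Fin.val_two, h0, h1, h2, h3, show t + (3 + 1) - 1 = t + 3 by omega]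
  ring_nf
  omega

theorem exists_prime_u {s : ℕ} (hs : 2 ≤ s) : ∃ r, r.Prime ∧ r ∣ s ^ 2 + s + 1 ∧ r ≠ 3 := by
  by_contra hc
  push Not at hc
  obtain ⟨k, hk⟩ : ∃ k, s ^ 2 + s + 1 = 3 ^ k :=
    ⟨_, Nat.eq_prime_pow_of_unique_prime_dvd (by omega) fun h1 h2 => hc _ h1 h2⟩
  have h1 : 7 ≤ 3 ^ k := by nlinarith
  obtain ⟨j, rfl⟩ : ∃ j, k = j + 2 := by
    rcases k with _ | _ | k
    · omega
    · omega
    · exact ⟨k, rfl⟩
  have h2 : (s ^ 2 + s + 1) % 9 = 0 := by rw [hk, pow_add]; omega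
  have h3 : ∀ x < 9, (x ^ 2 + x + 1) % 9 ≠ 0 := by decide
  refine h3 (s % 9) (Nat.mod_lt _ (by norm_num)) ?_
  rw [← h2]
  simp [Nat.add_mod, Nat.pow_mod]

end arith

theorem exists_aniso (F : Type*) [Field F] [Finite F] :
    ∃ a b : F, ∀ z₁ z₂ : F, z₁ ^ 2 + a * z₁ * z₂ + b * z₂ ^ 2 = 0 → z₁ = 0 ∧ z₂ = 0 := by
  obtain ⟨c, hc⟩ : ∃ c : F, ∀ t : F, t ^ 2 + t ≠ c := by
    by_contra hno
    push Not at hno
    have hs : Function.Surjective (fun t : F => t ^ 2 + t) := hno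
    have h1 : (-1 : F) = 0 := Finite.injective_iff_surjective.2 hs (by ring)
    exact one_ne_zero (neg_eq_zero.1 h1)
  refine ⟨1, -c, fun z₁ z₂ h => ?_⟩
  by_cases hz : z₂ = 0
  · subst hz
    exact ⟨(pow_eq_zero_iff two_ne_zero).1 (by linear_combination h), rfl⟩
  · refine absurd ?_ (hc (z₁ / z₂))
    field_simp
    linear_combination h

end Cfsg.Agent.N2.CentCl
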